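import Mathlib
import Groth.Prelude.Def_W4bk4git07Quot

/-!
# Orbits of geometric quotients

`range_psi`: for a geometric quotient `φ` and a `T`-point `f` of `X`, the image of `psi a f` is the
inverse image of the graph of `f ≫ φ` under `X ×_S T ⟶ Y ×_S T`.
-/

universe u

open CategoryTheory Limits MonoidalCategory CartesianMonoidalCategory MonObj AlgebraicGeometry
  Topology

namespace Groth.Agent.GitGeomQuot

variable {S : Scheme.{u}}

/-- The graph of a `T`-point of `Y`, as a morphism of schemes `T ⟶ Y ×_S T`. -/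
noncomputable def graph {Y T : Over S} (g : T ⟶ Y) : T.left ⟶ pullback Y.hom T.hom :=
  pullback.lift g.left (𝟙 _) (by rw [Over.w g, Category.id_comp])

@[reassoc (attr := simp)]
lemma graph_fst {Y T : Over S} (g : T ⟶ Y) : graph g ≫ pullback.fst _ _ = g.left := pullback.lift_fst _ _ _

@[reassoc (attr := simp)]
lemma graph_snd {Y T : Over S} (g : T ⟶ Y) : graph g ≫ pullback.snd _ _ = 𝟙 _ := pullback.lift_snd _ _ _

/-- `φ × 1 : X ×_S T ⟶ Y ×_S T`. -/
noncomputable def mapLeft {X Y : Over S} (φ : X ⟶ Y) (T : Over S) :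
    pullback X.hom T.hom ⟶ pullback Y.hom T.hom :=
  pullback.lift (pullback.fst _ _ ≫ φ.left) (pullback.snd _ _)
    (by rw [Category.assoc, Over.w φ, pullback.condition])

@[reassoc (attr := simp)]
lemma mapLeft_fst {X Y : Over S} (φ : X ⟶ Y) (T : Over S) :
    mapLeft φ T ≫ pullback.fst _ _ = pullback.fst _ _ ≫ φ.left := pullback.lift_fst _ _ _

@[reassoc (attr := simp)]
lemma mapLeft_snd {X Y : Over S} (φ : X ⟶ Y) (T : Over S) :
    mapLeft φ T ≫ pullback.snd _ _ = pullback.snd _ _ := pullback.lift_snd _ _ _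

lemma isPullback_mapLeft {X Y : Over S} (φ : X ⟶ Y) (T : Over S) :
    IsPullback (pullback.fst X.hom T.hom) (mapLeft φ T) φ.left (pullback.fst Y.hom T.hom) := by
  refine IsPullback.of_bot (h₁₁ := pullback.fst X.hom T.hom) ?_ (mapLeft_fst φ T).symm
    (IsPullback.of_hasPullback Y.hom T.hom)
  simp only [mapLeft_snd, Over.w φ]
  exact IsPullback.of_hasPullback X.hom T.hom

/-- The graph of a rational point of a scheme over a field has closed image. -/
lemma isClosed_range_of_section {T P : Scheme.{u}} [Subsingleton T] [Nonempty T] [IsAffine T]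
    (s : T ⟶ P) (q : P ⟶ T) (h : s ≫ q = 𝟙 T) : IsClosed (Set.range s.base) := by
  rw [TopologicalSpace.IsOpenCover.isClosed_iff_coe_preimage (iSup_affineOpens_eq_top P)]
  intro U
  by_cases hU : ∃ t, s.base t ∈ (U.1 : P.Opens)
  · obtain ⟨t, ht⟩ := hU
    have hr : Set.range s.base ⊆ Set.range U.1.ι.base := by
      rw [Scheme.Opens.range_ι]
      rintro _ ⟨t', rfl⟩
      rwa [Subsingleton.elim t' t]
    let s' := IsOpenImmersion.lift U.1.ι s hr
    haveI : IsAffine (U.1 : Scheme.{u}) := U.2
    haveI : IsClosedImmersion (s' ≫ (U.1.ι ≫ q)) := by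
      rw [IsOpenImmersion.lift_fac_assoc, h]; infer_instance
    haveI : IsClosedImmersion s' := IsClosedImmersion.of_comp s' (U.1.ι ≫ q)
    suffices key : ((↑) : (U.1 : Set P) → P) ⁻¹' Set.range s.base = Set.range s'.base from
      key ▸ s'.isClosedEmbedding.isClosed_range
    ext z
    constructor
    · rintro ⟨t', ht'⟩
      refine ⟨t', Subtype.ext ?_⟩
      rw [← ht', ← IsOpenImmersion.lift_fac U.1.ι s hr]
      rfl
    · rintro ⟨t', rfl⟩
      exact ⟨t', by rw [← IsOpenImmersion.lift_fac U.1.ι s hr]; rfl⟩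
  · convert isClosed_empty
    ext z
    simp only [Set.mem_preimage, Set.mem_range, Set.mem_empty_iff_false, iff_false]
    rintro ⟨t', ht'⟩
    exact hU ⟨t', ht' ▸ z.2⟩

variable {G : Over S} [GrpObj G] {X Y : Over S} {a : AlgGrp.Action G X} {φ : X ⟶ Y}

lemma psi_mapLeft (hφ : GIT.IsInvariant a φ) {T : Over S} (f : T ⟶ X) :
    (GIT.psi a f).left ≫ mapLeft φ T = (snd G T).left ≫ graph (f ≫ φ) := by
  have e1 : (GIT.psi a f).left ≫ pullback.fst X.hom T.hom = ((G ◁ f) ≫ a.act).left :=
    congrArg CommaMorphism.left (lift_fst ((G ◁ f) ≫ a.act) (snd G T))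
  have e2 : (GIT.psi a f).left ≫ pullback.snd X.hom T.hom = (snd G T).left :=
    congrArg CommaMorphism.left (lift_snd ((G ◁ f) ≫ a.act) (snd G T))
  apply pullback.hom_ext
  · simp only [Category.assoc, mapLeft_fst, graph_fst]
    rw [reassoc_of% e1, ← Over.comp_left, ← Over.comp_left, Category.assoc, hφ, whiskerLeft_snd_assoc]
  · simp only [Category.assoc, mapLeft_snd, graph_snd, Category.comp_id]
    exact e2

/-- The image of `psi a f` is the inverse image of the graph of `f ≫ φ`. -/
theorem range_psi (hinv : GIT.IsInvariant a φ)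
    (horb : Function.Surjective (GIT.PsiY a φ hinv).base) {T : Over S} (f : T ⟶ X) :
    Set.range (GIT.psi a f).left.base =
      (mapLeft φ T).base ⁻¹' Set.range (graph (f ≫ φ)).base := by
  refine subset_antisymm ?_ ?_
  · rintro _ ⟨w, rfl⟩
    refine ⟨(snd G T).left.base w, ?_⟩
    rw [← Scheme.Hom.comp_apply, ← psi_mapLeft hinv f]
    rfl
  · intro w hw
    obtain ⟨t, ht⟩ := hw
    obtain ⟨p, hp1, -⟩ := Scheme.Pullback.exists_preimage_pullback (f := mapLeft φ T)
      (g := graph (f ≫ φ)) w t ht.symm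
    subst hp1
    clear ht
    set m := pullback.fst (mapLeft φ T) (graph (f ≫ φ)) with hm
    set τ := pullback.snd (mapLeft φ T) (graph (f ≫ φ)) with hτ'
    have hτ : τ = m ≫ pullback.snd X.hom T.hom := by
      have := (pullback.condition (f := mapLeft φ T) (g := graph (f ≫ φ))) =≫ pullback.snd _ _
      rw [← hm, ← hτ'] at this
      simp only [Category.assoc, graph_snd, Category.comp_id, mapLeft_snd] at this
      exact this.symm
    have hc : (m ≫ pullback.fst X.hom T.hom) ≫ φ.left =
        (m ≫ pullback.snd X.hom T.hom ≫ f.left) ≫ φ.left := by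
      have := (pullback.condition (f := mapLeft φ T) (g := graph (f ≫ φ))) =≫ pullback.fst _ _
      rw [← hm, ← hτ'] at this
      simp only [Category.assoc, graph_fst, mapLeft_fst, Over.comp_left] at this ⊢
      rw [this]
      exact (reassoc_of% hτ) (f.left ≫ φ.left)
    let q := pullback.lift (m ≫ pullback.fst X.hom T.hom) (m ≫ pullback.snd X.hom T.hom ≫ f.left) hc
    obtain ⟨z, hz⟩ := horb (q.base p)
    obtain ⟨ω, hω, -⟩ := Scheme.Pullback.exists_preimage_pullback (f := q)
      (g := GIT.PsiY a φ hinv) p z hz.symm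
    subst hω
    set q1 := pullback.fst q (GIT.PsiY a φ hinv)
    set q2 := pullback.snd q (GIT.PsiY a φ hinv)
    have hq : q1 ≫ q = q2 ≫ GIT.PsiY a φ hinv := pullback.condition
    have hA : q1 ≫ m ≫ pullback.fst X.hom T.hom = q2 ≫ a.act.left := by
      have h1 := hq =≫ pullback.fst _ _
      simp only [q, GIT.PsiY, Category.assoc] at h1
      erw [pullback.lift_fst, pullback.lift_fst] at h1
      exact h1
    have hB : q1 ≫ m ≫ pullback.snd X.hom T.hom ≫ f.left = q2 ≫ (snd G X).left := by
      have h1 := hq =≫ pullback.snd _ _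
      simp only [q, GIT.PsiY, Category.assoc] at h1
      erw [pullback.lift_snd, pullback.lift_snd] at h1
      exact h1
    let R : Over S := Over.mk ((q1 ≫ m ≫ pullback.snd X.hom T.hom) ≫ T.hom)
    let t' : R ⟶ T := Over.homMk (q1 ≫ m ≫ pullback.snd X.hom T.hom)
    let gx : R ⟶ G ⊗ X := Over.homMk q2 (by
      change q2 ≫ (G ⊗ X).hom = (q1 ≫ m ≫ pullback.snd X.hom T.hom) ≫ T.hom
      rw [← Over.w (snd G X), ← reassoc_of% hB, Over.w f]
      simp only [Category.assoc])
    let r : R ⟶ G ⊗ T := lift (gx ≫ fst G X) t'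
    have hr1 : r ≫ (G ◁ f) = gx := by
      apply CartesianMonoidalCategory.hom_ext
      · simp [r]
      · simp only [Category.assoc, whiskerLeft_snd, r, lift_snd_assoc]
        ext1
        simpa [t', gx] using hB
    have e1 : r ≫ GIT.psi a f ≫ fst X T = gx ≫ a.act := by
      rw [GIT.psi, lift_fst, ← Category.assoc, hr1]
    have e2 : r ≫ GIT.psi a f ≫ snd X T = t' := by
      rw [GIT.psi, lift_snd]; simp [r]
    have : r.left ≫ (GIT.psi a f).left = q1 ≫ m := by
      apply pullback.hom_ext
      · rw [Category.assoc, Category.assoc, hA]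
        exact congrArg CommaMorphism.left e1
      · rw [Category.assoc, Category.assoc]
        exact congrArg CommaMorphism.left e2
    exact ⟨r.left.base ω, by rw [← Scheme.Hom.comp_apply, this]; rfl⟩

end Groth.Agent.GitGeomQuot
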