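import Mathlib

/-!
# Descending morphisms along a quotient map with injective sections
-/

universe u

open CategoryTheory AlgebraicGeometry Topology TopologicalSpace Opposite

namespace Groth.Agent.GitGeomQuot

variable {X Y Z : Scheme.{u}}

/-- A surjective morphism whose maps on sections are injective is an epimorphism. -/
theorem epi_of_app_injective (φ : X ⟶ Y) (hs : Function.Surjective φ.base)
    (hinj : ∀ U : Y.Opens, Function.Injective (φ.app U)) : Epi φ := by
  refine ⟨fun {W} g g' h => ?_⟩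
  have hb : g.base = g'.base := by
    ext y
    obtain ⟨x, rfl⟩ := hs y
    rw [← Scheme.Hom.comp_apply, ← Scheme.Hom.comp_apply, h]
  have key : ∀ (U : W.Opens) (V : Y.Opens) (e : V ≤ g ⁻¹ᵁ U) (e' : V ≤ g' ⁻¹ᵁ U),
      g.appLE U V e = g'.appLE U V e' := by
    intro U V e e'
    ext a
    apply hinj
    rw [← CommRingCat.comp_apply, ← CommRingCat.comp_apply, φ.app_eq_appLE,
      Scheme.Hom.appLE_comp_appLE, Scheme.Hom.appLE_comp_appLE]
    simp only [h]
  refine Scheme.Hom.ext hb fun U => ?_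
  exact (key U _ _ le_rfl).trans (g'.app_eq_appLE).symm

/-- Morphisms constant on the fibres of a quotient map, with descending sections, descend. -/
theorem existsUnique_descend (φ : X ⟶ Y) (ψ : X ⟶ Z) (hq : IsQuotientMap φ.base)
    (hc : ∀ x x' : X, φ.base x = φ.base x' → ψ.base x = ψ.base x')
    (hinj : ∀ U : Y.Opens, Function.Injective (φ.app U))
    (hrange : ∀ (U : Z.Opens) (V : Y.Opens) (e : φ ⁻¹ᵁ V ≤ ψ ⁻¹ᵁ U) (a : Γ(Z, U)),
      ψ.appLE U (φ ⁻¹ᵁ V) e a ∈ Set.range (φ.app V)) :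
    ∃! χ : Y ⟶ Z, φ ≫ χ = ψ := by
  haveI : Epi φ := epi_of_app_injective φ hq.surjective hinj
  suffices h : ∃ χ : Y ⟶ Z, φ ≫ χ = ψ by
    obtain ⟨χ, hχ⟩ := h
    exact ⟨χ, hχ, fun χ' h' => (cancel_epi φ).mp (h'.trans hχ.symm)⟩
  let χ₀ : Y → Z := fun y => ψ.base (Function.surjInv hq.surjective y)
  have hχ₀ : ∀ x, χ₀ (φ.base x) = ψ.base x := fun x =>
    hc _ _ (Function.surjInv_eq hq.surjective _)
  have hcont : Continuous χ₀ := by
    rw [hq.continuous_iff]
    convert ψ.continuous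
    ext x; exact hχ₀ x
  let b : (Y : TopCat) ⟶ (Z : TopCat) := TopCat.ofHom ⟨χ₀, hcont⟩
  have he : ∀ U : Z.Opens, φ ⁻¹ᵁ ((Opens.map b).obj U) ≤ ψ ⁻¹ᵁ U := fun U x hx => by
    have : χ₀ (φ.base x) ∈ U := hx
    rwa [hχ₀] at this
  choose ρ hρ using fun (U : Z.Opens) (a : Γ(Z, U)) => hrange U _ (he U) a
  let R : ∀ U : Z.Opens, Γ(Z, U) →+* Γ(Y, (Opens.map b).obj U) := fun U =>
    { toFun := ρ U
      map_one' := hinj _ (by simp [hρ])
      map_mul' := fun a c => hinj _ (by simp [hρ])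
      map_zero' := hinj _ (by simp [hρ])
      map_add' := fun a c => hinj _ (by simp [hρ]) }
  have hR : ∀ U, CommRingCat.ofHom (R U) ≫ φ.app _ = ψ.appLE U _ (he U) := fun U => by
    ext a; exact hρ U a
  let c : Z.presheaf ⟶ (TopCat.Presheaf.pushforward CommRingCat b).obj Y.presheaf :=
    { app := fun U => CommRingCat.ofHom (R U.unop)
      naturality := fun U V i => by
        ext a
        apply hinj
        change (CommRingCat.ofHom (R V.unop) ≫ φ.app _) (Z.presheaf.map i a) =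
          (Y.presheaf.map ((Opens.map b).map i.unop).op ≫ φ.app _) (R U.unop a)
        rw [hR, Scheme.Hom.naturality]
        change _ = X.presheaf.map _ ((CommRingCat.ofHom (R U.unop) ≫ φ.app _) a)
        rw [hR, ← CommRingCat.comp_apply, ← CommRingCat.comp_apply]
        simp only [Scheme.Hom.map_appLE, Scheme.Hom.appLE_map] }
  let χp : Y.toPresheafedSpace ⟶ Z.toPresheafedSpace := ⟨b, c⟩
  have hcomp : φ.toPshHom ≫ χp = ψ.toPshHom := by
    refine PresheafedSpace.ext _ _ ?_ ?_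
    · ext x; exact hχ₀ x
    · refine NatTrans.ext (funext fun U => ?_)
      change (CommRingCat.ofHom (R U.unop) ≫ φ.app _) ≫ X.presheaf.map _ = ψ.app U.unop
      rw [hR, Scheme.Hom.appLE_map, Scheme.Hom.app_eq_appLE]
  refine ⟨⟨⟨χp, fun y => ?_⟩⟩, Scheme.Hom.ext' (LocallyRingedSpace.Hom.ext' hcomp)⟩
  obtain ⟨x, rfl⟩ := hq.surjective y
  have h1 := PresheafedSpace.stalkMap.congr_hom _ _ hcomp x
  rw [PresheafedSpace.stalkMap.comp] at h1
  haveI : IsLocalHom ((χp.stalkMap (φ.base x)) ≫ (φ.toPshHom.stalkMap x)).hom := by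
    erw [h1]
    haveI : IsLocalHom (ψ.toPshHom.stalkMap x).hom := ψ.toLRSHom.prop x
    have key : ∀ {A B C : CommRingCat.{u}} (e : A = B) (f : B ⟶ C),
        IsLocalHom f.hom → IsLocalHom (eqToHom e ≫ f).hom := by
      intro A B C e f hf; subst e; simpa using hf
    exact key _ _ inferInstance
  rw [CommRingCat.hom_comp] at this
  exact isLocalHom_of_comp (χp.stalkMap (φ.base x)).hom (φ.toPshHom.stalkMap x).hom

end Groth.Agent.GitGeomQuot
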