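import Mathlib
import Groth.Prelude.Def_W4bk4git07Quot
import Groth.Agent.GitGeomQuot.Descend

/-!
# Geometric quotients are categorical quotients
-/

universe u

open CategoryTheory Limits MonoidalCategory CartesianMonoidalCategory MonObj AlgebraicGeometry
  Topology

namespace Groth.Agent.GitGeomQuot

variable {S : Scheme.{u}} {G : Over S} [GrpObj G] {X Y : Over S} {a : AlgGrp.Action G X} {φ : X ⟶ Y}

theorem isCatQuot_of_isGeomQuot (h : GIT.IsGeomQuot a φ) : GIT.IsCatQuot a φ := by
  refine ⟨h.inv, fun Z ψ hψ => ?_⟩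
  have hq : IsQuotientMap φ.left.base := MorphismProperty.universally_le _ _ h.subm
  haveI : Epi φ.left := epi_of_app_injective φ.left h.surj fun U => (h.sections U).1
  obtain ⟨χ, hχ, -⟩ := existsUnique_descend φ.left ψ.left hq (fun x x' hxx' => by
      obtain ⟨p, rfl, rfl⟩ := Scheme.Pullback.exists_preimage_pullback (f := φ.left) (g := φ.left)
        x x' hxx'
      obtain ⟨z, rfl⟩ := h.orbit p
      rw [← Scheme.Hom.comp_apply, ← Scheme.Hom.comp_apply, ← Scheme.Hom.comp_apply,
        ← Scheme.Hom.comp_apply]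
      simp only [GIT.PsiY, Category.assoc]
      erw [pullback.lift_fst_assoc, pullback.lift_snd_assoc]
      rw [GIT.IsInvariant.left hψ])
    (fun U => (h.sections U).1) (fun U V e f => by
      rw [(h.sections V).2]
      change GIT.IsInvSection a φ V _
      rw [GIT.IsInvSection, ← CommRingCat.comp_apply, ← CommRingCat.comp_apply,
        Scheme.Hom.appLE_comp_appLE, Scheme.Hom.appLE_comp_appLE]
      simp only [GIT.IsInvariant.left hψ])
  have hw : χ ≫ Z.hom = Y.hom := by
    rw [← cancel_epi φ.left, reassoc_of% hχ, Over.w ψ, Over.w φ]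
  refine ⟨Over.homMk χ hw, Over.OverMorphism.ext (by simpa using hχ), fun χ' h' => ?_⟩
  apply Over.OverMorphism.ext
  rw [← cancel_epi φ.left, ← Over.comp_left, h']
  exact hχ.symm

theorem isUnivCatQuot_of_isUnivGeomQuot (h : GIT.IsUnivGeomQuot a φ) : GIT.IsUnivCatQuot a φ :=
  ⟨isCatQuot_of_isGeomQuot h.1, fun _ _ pr φ' g hg hP a' ha hi =>
    isCatQuot_of_isGeomQuot (h.2 pr φ' g hg hP a' ha hi)⟩

end Groth.Agent.GitGeomQuot
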